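import Mathlib
import Cfsg.Agent.Lib.Helper44.FW.Defs

/-!
# FW package [INVOL] (S3211): the involutions of `C(j)`
-/

set_option autoImplicit false

namespace Cfsg.Agent.Lib.Helper79.FW

open Cfsg Cfsg.Agent.Lib.Helper44.FW

universe u

/-- Elements of the join of two elementwise commuting subgroups are products. -/
theorem mem_sup_comm_fw {G : Type u} [Group G] (A B : Subgroup G)
    (hc : ∀ a ∈ A, ∀ b ∈ B, a * b = b * a) {x : G} (hx : x ∈ A ⊔ B) :
    ∃ a ∈ A, ∃ b ∈ B, x = a * b := by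
  rw [Subgroup.sup_eq_closure] at hx
  induction hx using Subgroup.closure_induction with
  | mem y hy =>
    rcases hy with hy | hy
    · exact ⟨y, hy, 1, B.one_mem, by simp⟩
    · exact ⟨1, A.one_mem, y, hy, by simp⟩
  | one => exact ⟨1, A.one_mem, 1, B.one_mem, by simp⟩
  | mul y z _ _ ihy ihz =>
    obtain ⟨a, ha, b, hb, rfl⟩ := ihy
    obtain ⟨a', ha', b', hb', rfl⟩ := ihz
    refine ⟨a * a', A.mul_mem ha ha', b * b', B.mul_mem hb hb', ?_⟩
    have := hc a' ha' b hb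
    calc a * b * (a' * b') = a * (b * a') * b' := by group
      _ = a * (a' * b) * b' := by rw [← this]
      _ = a * a' * (b * b') := by group
  | inv y _ ih =>
    obtain ⟨a, ha, b, hb, rfl⟩ := ih
    refine ⟨a⁻¹, A.inv_mem ha, b⁻¹, B.inv_mem hb, ?_⟩
    have := hc a ha b hb
    rw [this]; group

/-- [INVOL] the involutions of `C(j)`. -/
theorem pkgInvol : PkgInvol.{u} := by
  intro G _ L₁ L₂ j n cfg hu1 hu2 r hr hr2 hr1 hrj
  have hj2 : j ^ 2 = 1 := by rw [← cfg.ord]; exact pow_orderOf_eq_one j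
  have hjj : j * j = 1 := by rw [← pow_two]; exact hj2
  have hj1 : j ≠ 1 := by
    intro h
    have := cfg.ord
    rw [h, orderOf_one] at this
    omega
  have hjinv : j⁻¹ = j := inv_eq_of_mul_eq_one_left hjj
  have hnn : n * n = j := by rw [← pow_two]; exact cfg.hn2
  have hjL : j ∈ L₁ ⊓ L₂ := by rw [cfg.meet]; exact Subgroup.mem_zpowers j
  have hjL1 : j ∈ L₁ := hjL.1
  have hjL2 : j ∈ L₂ := hjL.2
  have hmeet : ∀ w, w ∈ L₁ → w ∈ L₂ → w = 1 ∨ w = j := by
    intro w h1 h2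
    have hw : w ∈ Subgroup.zpowers j := by rw [← cfg.meet]; exact ⟨h1, h2⟩
    obtain ⟨i, rfl⟩ := Subgroup.mem_zpowers_iff.mp hw
    rcases Int.emod_two_eq_zero_or_one i with h | h
    · left
      have hi : i = 2 * (i / 2) := by omega
      rw [hi, zpow_mul, zpow_two, hjj, one_zpow]
    · right
      have hi : i = 2 * (i / 2) + 1 := by omega
      rw [hi, zpow_add, zpow_mul, zpow_two, hjj, one_zpow, one_mul, zpow_one]
  have hY : ∀ w ∈ L₁ ⊔ L₂, ∃ x ∈ L₁, ∃ y ∈ L₂, w = x * y :=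
    fun w hw => mem_sup_comm_fw _ _ cfg.comm hw
  have hjC : ∀ g ∈ L₁ ⊔ L₂, j * g = g * j := by
    intro g hg
    have := cfg.le hg
    rw [Subgroup.mem_centralizer_iff] at this
    exact this j rfl
  have hnj : n * j = j * n := by
    have := cfg.hn
    rw [Subgroup.mem_centralizer_iff] at this
    exact (this j rfl).symm
  have hswap1 : ∀ x ∈ L₁, n * x * n⁻¹ ∈ L₂ := by
    intro x hx
    rw [← cfg.swap]
    exact ⟨x, hx, by simp [MulAut.conj_apply]⟩
  have hswap0 : ∀ v ∈ L₂, ∃ v₀ ∈ L₁, v = n * v₀ * n⁻¹ := by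
    intro v hv
    rw [← cfg.swap] at hv
    obtain ⟨v₀, hv₀, rfl⟩ := hv
    exact ⟨v₀, hv₀, by simp [MulAut.conj_apply]⟩
  have hswap2 : ∀ v ∈ L₂, n * v * n⁻¹ ∈ L₁ := by
    intro v hv
    obtain ⟨v₀, hv₀, rfl⟩ := hswap0 v hv
    have hc := hjC v₀ (Subgroup.mem_sup_left hv₀)
    have : n * (n * v₀ * n⁻¹) * n⁻¹ = v₀ := by
      calc n * (n * v₀ * n⁻¹) * n⁻¹ = (n * n) * v₀ * (n * n)⁻¹ := by group
        _ = j * v₀ * j⁻¹ := by rw [hnn]
        _ = v₀ * j * j⁻¹ := by rw [hc]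
        _ = v₀ := by group
    rw [this]; exact hv₀
  by_cases hrY : r ∈ L₁ ⊔ L₂
  · -- r ∈ Y
    obtain ⟨x, hx, y, hy, hrxy⟩ := hY r hrY
    have hxy : Commute x y := cfg.comm x hx y hy
    have hsq : x ^ 2 * y ^ 2 = 1 := by
      rw [← hxy.mul_pow, ← hrxy]; exact hr2
    have hx2 : x ^ 2 = (y ^ 2)⁻¹ := eq_inv_of_mul_eq_one_left hsq
    rcases hmeet (x ^ 2) (L₁.pow_mem hx 2)
        (by rw [hx2]; exact L₂.inv_mem (L₂.pow_mem hy 2)) with h | h
    · exfalso
      have hy2 : y ^ 2 = 1 := by rw [h, one_mul] at hsq; exact hsq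
      rcases hu1 x hx h with h1 | h1 <;> rcases hu2 y hy hy2 with h2 | h2
      · exact hr1 (by rw [hrxy, h1, h2, one_mul])
      · exact hrj (by rw [hrxy, h1, h2, one_mul])
      · exact hrj (by rw [hrxy, h1, h2, mul_one])
      · exact hr1 (by rw [hrxy, h1, h2, hjj])
    · refine ⟨x, hx, y, hy, hrxy, h, ?_⟩
      rw [h] at hsq
      have : y ^ 2 = j⁻¹ := eq_inv_of_mul_eq_one_right hsq
      rw [this, hjinv]
  · -- r ∉ Y: impossible
    exfalso
    have hnY : n ∉ L₁ ⊔ L₂ := by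
      intro hn
      obtain ⟨x, hx, y, hy, hnxy⟩ := hY n hn
      have hL21 : L₂ ≤ L₁ := by
        intro v hv
        obtain ⟨v₀, hv₀, rfl⟩ := hswap0 v hv
        have h1 := cfg.comm v₀ hv₀ y hy
        have : n * v₀ * n⁻¹ = x * v₀ * x⁻¹ := by
          rw [hnxy]
          calc x * y * v₀ * (x * y)⁻¹ = x * (y * v₀) * y⁻¹ * x⁻¹ := by group
            _ = x * (v₀ * y) * y⁻¹ * x⁻¹ := by rw [h1]
            _ = x * v₀ * x⁻¹ := by group
        rw [this]; exact L₁.mul_mem (L₁.mul_mem hx hv₀) (L₁.inv_mem hx)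
      have hn1 : n ∈ L₁ := by rw [hnxy]; exact L₁.mul_mem hx (hL21 hy)
      have hn2 : n ∈ L₂ := by
        have := hswap1 n hn1
        have e : n * n * n⁻¹ = n := by group
        rw [e] at this; exact this
      rcases hmeet n hn1 hn2 with h | h
      · rw [h, one_mul] at hnn; exact hj1 hnn.symm
      · rw [h, hjj] at hnn; exact hj1 hnn.symm
    have hw : n⁻¹ * r ∈ L₁ ⊔ L₂ := by
      have hidx : ((L₁ ⊔ L₂).subgroupOf (Subgroup.centralizer ({j} : Set G))).index = 2 := cfg.idx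
      have key := Subgroup.mul_mem_iff_of_index_two hidx
        (a := (⟨n, cfg.hn⟩ : ↥(Subgroup.centralizer ({j} : Set G)))⁻¹) (b := ⟨r, hr⟩)
      have hmem : ((⟨n, cfg.hn⟩ : ↥(Subgroup.centralizer ({j} : Set G)))⁻¹ * ⟨r, hr⟩) ∈
          (L₁ ⊔ L₂).subgroupOf (Subgroup.centralizer ({j} : Set G)) := by
        rw [key]
        constructor
        · intro h
          exfalso
          have h' := (Subgroup.inv_mem_iff _).mp h
          exact hnY (Subgroup.mem_subgroupOf.mp h')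
        · intro h
          exact absurd (Subgroup.mem_subgroupOf.mp h) hrY
      exact Subgroup.mem_subgroupOf.mp hmem
    obtain ⟨u, hu, v, hv, hwuv⟩ := hY _ hw
    have hr' : r = n * (u * v) := by rw [← hwuv]; group
    have h0 : n * (u * v) * (n * (u * v)) = 1 := by rw [← hr', ← pow_two]; exact hr2
    have hu' : n * u * n⁻¹ ∈ L₂ := hswap1 u hu
    have hv' : n * v * n⁻¹ ∈ L₁ := hswap2 v hv
    have hE : (n * u * n⁻¹) * (n * v * n⁻¹) * j * (u * v) = 1 := by
      have : (n * u * n⁻¹) * (n * v * n⁻¹) * (n * n) * (u * v) = n * (u * v) * (n * (u * v)) := by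
        group
      rw [hnn] at this; rw [this]; exact h0
    have hprod : n * v * n⁻¹ * u * (n * u * n⁻¹ * j * v) = 1 := by
      have e1 : (n * v * n⁻¹) * (n * u * n⁻¹) = (n * u * n⁻¹) * (n * v * n⁻¹) :=
        cfg.comm _ hv' _ hu'
      have e2 : u * (n * u * n⁻¹ * j) = (n * u * n⁻¹ * j) * u :=
        cfg.comm u hu _ (L₂.mul_mem hu' hjL2)
      calc n * v * n⁻¹ * u * (n * u * n⁻¹ * j * v)
          = n * v * n⁻¹ * (u * (n * u * n⁻¹ * j)) * v := by group
        _ = n * v * n⁻¹ * ((n * u * n⁻¹ * j) * u) * v := by rw [e2]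
        _ = ((n * v * n⁻¹) * (n * u * n⁻¹)) * j * (u * v) := by group
        _ = ((n * u * n⁻¹) * (n * v * n⁻¹)) * j * (u * v) := by rw [e1]
        _ = 1 := hE
    have hδ1 : n * v * n⁻¹ * u ∈ L₁ := L₁.mul_mem hv' hu
    have hδ2 : n * v * n⁻¹ * u ∈ L₂ := by
      rw [eq_inv_of_mul_eq_one_left hprod]
      exact L₂.inv_mem (L₂.mul_mem (L₂.mul_mem hu' hjL2) hv)
    have hjv : j * v = v * j := hjC v (Subgroup.mem_sup_right hv)
    have F1 : n * (n * v * n⁻¹) * n⁻¹ = v := by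
      calc n * (n * v * n⁻¹) * n⁻¹ = (n * n) * v * (n * n)⁻¹ := by group
        _ = j * v * j⁻¹ := by rw [hnn]
        _ = v * j * j⁻¹ := by rw [hjv]
        _ = v := by group
    rcases hmeet _ hδ1 hδ2 with hδ | hδ
    · -- δ = 1
      have hv'u : n * v * n⁻¹ = u⁻¹ := eq_inv_of_mul_eq_one_left hδ
      rw [hv'u] at F1
      have hu'v : n * u * n⁻¹ = v⁻¹ := by rw [← F1]; group
      have h3 : n * u * n⁻¹ * j * v = 1 := by rw [hδ, one_mul] at hprod; exact hprod
      rw [hu'v] at h3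
      have h4 : v⁻¹ * j * v = j := by rw [mul_assoc, hjv]; group
      rw [h4] at h3
      exact hj1 h3
    · -- δ = j
      have hnjn : n * j * n⁻¹ = j := by rw [hnj]; group
      have hv'u : n * v * n⁻¹ = j * u⁻¹ := eq_mul_inv_of_mul_eq hδ
      rw [hv'u] at F1
      have e3 : j * (n * u * n⁻¹)⁻¹ = v := by
        rw [← F1]
        calc j * (n * u * n⁻¹)⁻¹ = (n * j * n⁻¹) * (n * u * n⁻¹)⁻¹ := by rw [hnjn]
          _ = n * (j * u⁻¹) * n⁻¹ := by group
      have hu'v : n * u * n⁻¹ = v⁻¹ * j := by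
        have : (n * u * n⁻¹)⁻¹ = j⁻¹ * v := by rw [← e3]; group
        rw [← inv_inv (n * u * n⁻¹), this]; group
      have h3 : j * (n * u * n⁻¹ * j * v) = 1 := by rw [hδ] at hprod; exact hprod
      rw [hu'v] at h3
      have h4 : j * (v⁻¹ * j * j * v) = j := by
        rw [mul_assoc v⁻¹ j j, hjj, mul_one, inv_mul_cancel, mul_one]
      rw [h4] at h3
      exact hj1 h3

end Cfsg.Agent.Lib.Helper79.FW
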